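import Groth.Agent.SymSqLib.Inter
import Groth.Agent.DimChain.Morphism
import Groth.Agent.S19074
import Groth.Agent.S19075
import Groth.Agent.S19076
import Groth.Agent.S19082

/-!
The intersection table of the symmetric square of a hyperelliptic curve.
-/

set_option autoImplicit false
set_option backward.isDefEq.respectTransparency false
set_option linter.style.haveILetI false
set_option linter.unusedSectionVars false
set_option maxHeartbeats 2000000

universe u

open CategoryTheory CategoryTheory.Limits AlgebraicGeometry TopologicalSpace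
open Groth.Agent.CurveSq (sq p1 p2 box)

noncomputable section

namespace Groth.Agent.SymSqLib

variable {k : Type u} [Field k] {C : Scheme.{u}} [C.Over (Spec (CommRingCat.of k))]
  [IsProper (C ↘ Spec (CommRingCat.of k))]

/-- The exchange of the two factors. -/
abbrev swapSq (k : Type u) [Field k] (C : Scheme.{u}) [C.Over (Spec (CommRingCat.of k))] : sq k C ⟶ sq k C :=
  (pullbackSymmetry (C ↘ Spec (CommRingCat.of k)) (C ↘ Spec (CommRingCat.of k))).hom

theorem swapSq_over : swapSq k C ≫ (sq k C ↘ Spec (CommRingCat.of k)) = sq k C ↘ Spec (CommRingCat.of k) := by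
  show (pullbackSymmetry _ _).hom ≫ pullback.fst _ _ ≫ _ = pullback.fst _ _ ≫ _
  rw [pullbackSymmetry_hom_comp_fst_assoc]
  exact pullback.condition.symm

theorem swapSq_p1 : swapSq k C ≫ p1 k C = p2 k C := pullbackSymmetry_hom_comp_fst _ _

theorem swapSq_p2 : swapSq k C ≫ p2 k C = p1 k C := pullbackSymmetry_hom_comp_snd _ _

theorem dim_sq (hdim : topologicalKrullDim C = 1) : topologicalKrullDim (sq k C) = (2 : ℕ) := by
  rw [Groth.Agent.S4643.result, hdim]; rfl

variable [IsAlgClosed k] [Smooth (C ↘ Spec (CommRingCat.of k))] [ConnectedSpace C]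
  {Sq : Scheme.{u}} [Sq.Over (Spec (CommRingCat.of k))]

/-- The standing facts about the symmetric square. -/
structure Facts (π : sq k C ⟶ Sq) : Prop where
  proper : IsProper (Sq ↘ Spec (CommRingCat.of k))
  smooth : Smooth (Sq ↘ Spec (CommRingCat.of k))
  integral : IsIntegral Sq
  dim : topologicalKrullDim Sq = (2 : ℕ)
  hover : π ≫ (Sq ↘ Spec (CommRingCat.of k)) = sq k C ↘ Spec (CommRingCat.of k)
  swap : swapSq k C ≫ π = π
  flat : Flat π
  finite : IsFinite π
  lfp : LocallyOfFinitePresentation π
  rank : ∀ [Flat π] [IsFinite π], ∀ y, π.finrank y = 2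

variable {ρ : ULift.{u} (Equiv.Perm (Fin 2)) →* Aut (sq k C)} {π : sq k C ⟶ Sq}

theorem facts (hdim : topologicalKrullDim C = 1)
    (hρ : (ρ (ULift.up (Equiv.swap 0 1))).hom = swapSq k C) (hπ : SGA1.IsQuot ρ π)
    (hq : π ≫ (Sq ↘ Spec (CommRingCat.of k)) = sq k C ↘ Spec (CommRingCat.of k)) : Facts π := by
  obtain ⟨hP, hSm, hsur, hfl, hfi, hlfp, hrk⟩ := sq_facts hdim hρ hπ hq
  haveI := hP
  haveI := hSm
  haveI := hfi
  haveI := CurveRR.Easy.isIntegral_of_smooth (k := k) (X := C)
  haveI : IsIntegral (sq k C) := Groth.Agent.S1582.result k C C _ _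
  haveI : ConnectedSpace Sq := hsur.surj.connectedSpace π.continuous
  refine ⟨hP, hSm, CurveRR.Easy.isIntegral_of_smooth (k := k), ?_, hq, ?_, hfl, hfi, hlfp, hrk⟩
  · rw [← dim_sq (k := k) hdim, DimChain.dim_finite π, hsur.surj.range_eq,
      IsHomeomorph.topologicalKrullDim_eq _ (Homeomorph.Set.univ Sq).isHomeomorph]
  · rw [← hρ]; exact hπ.inv _

variable (F : Facts π)

include F

theorem intNum_double (hdim : topologicalKrullDim C = 1) {A B : Sq.Modules} (hA : PicF.IsInvertible A)
    (hB : PicF.IsInvertible B) {A' B' : (sq k C).Modules}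
    (eA : (Scheme.Modules.pullback π).obj A ≅ A') (eB : (Scheme.Modules.pullback π).obj B ≅ B') :
    2 * FGA.intNum k Sq 2 ![A, B] (Coh.structureModule Sq) =
      FGA.intNum k (sq k C) 2 ![A', B'] (Coh.structureModule (sq k C)) := by
  haveI := F.proper
  haveI := F.integral
  haveI := F.flat
  haveI := F.finite
  haveI := F.lfp
  have hd := (dim_sq (k := k) hdim).le
  rw [← intNum_pullback_double π F.hover F.rank hd F.dim hA hB, PtPush.intNum_congr_left k hd eA,
    intNum_congr_right hd eB]

theorem intNum_snd (hdim : topologicalKrullDim C = 1) {A : C.Modules} (hA : PicF.IsInvertible A)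
    {M : Sq.Modules} (hM : PicF.IsInvertible M) {M' : (sq k C).Modules}
    (e : (Scheme.Modules.pullback π).obj M ≅ M') :
    FGA.intNum k (sq k C) 2 ![(Scheme.Modules.pullback (p2 k C)).obj A, M'] (Coh.structureModule (sq k C)) =
      FGA.intNum k (sq k C) 2 ![(Scheme.Modules.pullback (p1 k C)).obj A, M'] (Coh.structureModule (sq k C)) := by
  have hd := (dim_sq (k := k) hdim).le
  have h := intNum_pullback_iso (swapSq k C) swapSq_over hd hd (PicLoc.isInvertible_pullback (p1 k C) hA)
    (PicLoc.isInvertible_pullback π hM)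
  have i₁ : (Scheme.Modules.pullback (swapSq k C)).obj ((Scheme.Modules.pullback (p1 k C)).obj A) ≅
      (Scheme.Modules.pullback (p2 k C)).obj A :=
    (Scheme.Modules.pullbackComp _ _).app A ≪≫ (Scheme.Modules.pullbackCongr swapSq_p1).app A
  have i₂ : (Scheme.Modules.pullback (swapSq k C)).obj ((Scheme.Modules.pullback π).obj M) ≅
      (Scheme.Modules.pullback π).obj M :=
    (Scheme.Modules.pullbackComp _ _).app M ≪≫ (Scheme.Modules.pullbackCongr F.swap).app M
  rw [PtPush.intNum_congr_left k hd i₁, intNum_congr_right hd i₂, intNum_congr_right hd e,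
    intNum_congr_right hd e] at h
  exact h

omit F in
theorem intNum_snd_snd (hdim : topologicalKrullDim C = 1) {A : C.Modules} (hA : PicF.IsInvertible A) :
    FGA.intNum k (sq k C) 2 ![(Scheme.Modules.pullback (p2 k C)).obj A, (Scheme.Modules.pullback (p2 k C)).obj A]
        (Coh.structureModule (sq k C)) =
      FGA.intNum k (sq k C) 2 ![(Scheme.Modules.pullback (p1 k C)).obj A, (Scheme.Modules.pullback (p1 k C)).obj A]
        (Coh.structureModule (sq k C)) := by
  have hd := (dim_sq (k := k) hdim).le
  have hA1 := PicLoc.isInvertible_pullback (p1 k C) hA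
  have h := intNum_pullback_iso (swapSq k C) swapSq_over hd hd hA1 hA1
  have i : (Scheme.Modules.pullback (swapSq k C)).obj ((Scheme.Modules.pullback (p1 k C)).obj A) ≅
      (Scheme.Modules.pullback (p2 k C)).obj A :=
    (Scheme.Modules.pullbackComp _ _).app A ≪≫ (Scheme.Modules.pullbackCongr swapSq_p1).app A
  rw [PtPush.intNum_congr_left k hd i, intNum_congr_right hd i] at h
  exact h

end Groth.Agent.SymSqLib
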