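import Groth.Prelude.Def_SGA1
import Groth.Agent.SymAlg.BundleMap
import Groth.Agent.UfdExtend.Glue
import Groth.Agent.S14809
import Groth.Agent.TMul.Ample

/-!
Invertible modules on a quotient which become trivial upstairs.
-/

set_option autoImplicit false
set_option backward.isDefEq.respectTransparency false
set_option linter.style.haveILetI false
set_option maxHeartbeats 1000000

universe u

open CategoryTheory CategoryTheory.Limits AlgebraicGeometry TopologicalSpace Opposite
open Groth.Agent.QC (res resO res_res res_smul resO_resO resO_self app_res res_self)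
open TMul (IsGen)

noncomputable section

namespace Groth.Agent.SymSqLib

variable {G : Type u} [Group G] {X Y : Scheme.{u}} {ρ : G →* Aut X} {π : X ⟶ Y}

theorem appLE_of_eq' {A B : Scheme.{u}} {f g : A ⟶ B} (h : f = g) {U : B.Opens} {V : A.Opens}
    {e : V ≤ f ⁻¹ᵁ U} : f.appLE U V e = g.appLE U V (h ▸ e) := by
  subst h; rfl

theorem app_resO {A B : Scheme.{u}} (f : A ⟶ B) {V U : B.Opens} (h : V ≤ U) (r : Γ(B, U)) :
    (f.app V).hom (resO B h r) = resO A (f.preimage_mono h) ((f.app U).hom r) :=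
  congr($(f.naturality (homOfLE h).op).hom r)

theorem appLE_resO {A B : Scheme.{u}} (f : A ⟶ B) {V U : B.Opens} {V' U' : A.Opens} (h : V ≤ U) (h' : V' ≤ U')
    (e : U' ≤ f ⁻¹ᵁ U) (e' : V' ≤ f ⁻¹ᵁ V) (r : Γ(B, U)) :
    (f.appLE V V' e').hom (resO B h r) = resO A h' ((f.appLE U U' e).hom r) := by
  simp only [resO, ← CommRingCat.comp_apply, Scheme.Hom.map_appLE, Scheme.Hom.appLE_map]

/-- An invertible module on a quotient with a nowhere vanishing pulled back section is trivial, provided the group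
fixes a subscheme on which global functions are determined. -/
theorem trivial_of_pullback_trivial (hπ : SGA1.IsQuot ρ π) {T : Scheme.{u}} (δ : T ⟶ X)
    (hδ : ∀ g, δ ≫ (ρ g).hom = δ) (hinj : Function.Injective δ.appTop.hom)
    {M : Y.Modules} (hM : PicF.IsInvertible M)
    (φ : Coh.structureModule X ≅ (Scheme.Modules.pullback π).obj M) :
    Nonempty (Coh.structureModule Y ≅ M) := by
  classical
  haveI := hπ.affine
  let P := (Scheme.Modules.pullback π).obj M
  let e : Γ(P, (⊤ : X.Opens)) := φ.hom.app ⊤ (1 : Γ(X, ⊤))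
  have he : IsGen e := fun V hV => by
    have h1 : (fun c : Γ(X, V) => c • res P hV e) = fun c => φ.hom.app V c := funext fun c => by
      rw [app_res φ.hom hV, ← Scheme.Modules.Hom.app_smul]
      exact congrArg _ ((congrArg (fun t => c * t) (map_one (resO X hV))).trans (mul_one c))
    rw [h1]
    exact ConcreteCategory.bijective_of_isIso (φ.hom.app V)
  choose W m hyW hm using TMul.exists_isGen hM
  let θ := SymAlg.pullθ π (Iso.refl P)
  let η : ∀ y, Γ(P, π ⁻¹ᵁ W y) := fun y => θ.app (W y) (m y)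
  have hη : ∀ y, IsGen (η y) := fun y =>
    SymAlg.isGen_pullθ π (Iso.refl P) (PicLoc.isInvertible_pullback π hM) (TMul.isQCoh_of_isInvertible hM) (m y) (hm y)
  choose a ha using fun y => (hη y (π ⁻¹ᵁ W y) le_rfl).2 (res P (le_top : π ⁻¹ᵁ W y ≤ ⊤) e)
  simp only [res_self] at ha
  choose ai hai using fun y => ((he.res (le_top : π ⁻¹ᵁ W y ≤ ⊤)) (π ⁻¹ᵁ W y) le_rfl).2 (η y)
  simp only [res_self] at hai
  have ha1 : ∀ y, ai y * a y = 1 := fun y => ((hη y) (π ⁻¹ᵁ W y) le_rfl).1 (by
    show (_ * _) • _ = (1 : Γ(X, π ⁻¹ᵁ W y)) • _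
    rw [res_self, mul_smul, ha, hai, one_smul])
  -- the transition functions
  have hov : ∀ y z, ∃ b : Γ(Y, W y ⊓ W z),
      b • res M (inf_le_left : W y ⊓ W z ≤ W y) (m y) = res M (inf_le_right : W y ⊓ W z ≤ W z) (m z) :=
    fun y z => (hm y (W y ⊓ W z) inf_le_left).2 _
  choose b hb using hov
  have hab : ∀ y z, resO X (π.preimage_mono (inf_le_left : W y ⊓ W z ≤ W y)) (a y) =
      resO X (π.preimage_mono (inf_le_right : W y ⊓ W z ≤ W z)) (a z) * (π.app (W y ⊓ W z)).hom (b y z) := by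
    intro y z
    refine (hη y (π ⁻¹ᵁ (W y ⊓ W z)) (π.preimage_mono inf_le_left)).1 ?_
    show _ • _ = (_ * _) • _
    have h1 := congrArg (res P (π.preimage_mono (inf_le_left : W y ⊓ W z ≤ W y))) (ha y)
    have h2 := congrArg (res P (π.preimage_mono (inf_le_right : W y ⊓ W z ≤ W z))) (ha z)
    rw [res_smul, res_res] at h1 h2
    refine h1.trans ?_
    rw [mul_smul]
    refine h2.symm.trans (congrArg _ ?_)
    have h3 := congrArg (θ.app (W y ⊓ W z)) (hb y z)
    rw [Scheme.Modules.Hom.app_smul, ← app_res θ, ← app_res θ] at h3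
    exact h3.symm
  -- the action on the coefficients
  let ac : ∀ (g : G) (U : Y.Opens), Γ(X, π ⁻¹ᵁ U) →+* Γ(X, π ⁻¹ᵁ U) := fun g U =>
    ((ρ g).hom.appLE (π ⁻¹ᵁ U) (π ⁻¹ᵁ U) (SGA1.preimage_le_of_inv ρ π hπ.inv g U)).hom
  have hac : ∀ g (V U : Y.Opens) (h : V ≤ U) (r : Γ(X, π ⁻¹ᵁ U)),
      ac g V (resO X (π.preimage_mono h) r) = resO X (π.preimage_mono h) (ac g U r) := fun g V U h r =>
    appLE_resO (ρ g).hom _ _ _ _ r
  have hacb : ∀ g (U : Y.Opens) (c : Γ(Y, U)), ac g U ((π.app U).hom c) = (π.app U).hom c := fun g U c =>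
    (hπ.range_iff U _).1 ⟨c, rfl⟩ g
  have hinv : ∀ g y, ac g (W y) (a y) = a y := by
    intro g
    have hcomp : ∀ y z,
        resO X (π.preimage_mono (inf_le_left : W y ⊓ W z ≤ W y)) (ac g (W y) (a y) * ai y) =
        resO X (π.preimage_mono (inf_le_right : W y ⊓ W z ≤ W z)) (ac g (W z) (a z) * ai z) := by
      intro y z
      have h1 : resO X (π.preimage_mono (inf_le_left : W y ⊓ W z ≤ W y)) (ac g (W y) (a y)) *
          resO X (π.preimage_mono (inf_le_right : W y ⊓ W z ≤ W z)) (a z) =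
        resO X (π.preimage_mono (inf_le_right : W y ⊓ W z ≤ W z)) (ac g (W z) (a z)) *
          resO X (π.preimage_mono (inf_le_left : W y ⊓ W z ≤ W y)) (a y) := by
        rw [← hac g _ _ (inf_le_left : W y ⊓ W z ≤ W y), ← hac g _ _ (inf_le_right : W y ⊓ W z ≤ W z), hab y z,
          map_mul, hacb]
        ring
      have hy := congrArg (resO X (π.preimage_mono (inf_le_left : W y ⊓ W z ≤ W y))) (ha1 y)
      have hz := congrArg (resO X (π.preimage_mono (inf_le_right : W y ⊓ W z ≤ W z))) (ha1 z)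
      simp only [map_mul, map_one] at hy hz ⊢
      linear_combination (resO X (π.preimage_mono (inf_le_left : W y ⊓ W z ≤ W y)) (ai y) *
        resO X (π.preimage_mono (inf_le_right : W y ⊓ W z ≤ W z)) (ai z)) * h1 -
        (resO X (π.preimage_mono (inf_le_left : W y ⊓ W z ≤ W y)) (ac g (W y) (a y)) *
          resO X (π.preimage_mono (inf_le_left : W y ⊓ W z ≤ W y)) (ai y)) * hz +
        (resO X (π.preimage_mono (inf_le_right : W y ⊓ W z ≤ W z)) (ac g (W z) (a z)) *
          resO X (π.preimage_mono (inf_le_right : W y ⊓ W z ≤ W z)) (ai z)) * hy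
    obtain ⟨r, hr, -⟩ := TopCat.Sheaf.existsUnique_gluing' X.sheaf (fun y => π ⁻¹ᵁ W y) ⊤
      (fun y => homOfLE le_top) (fun x _ => Opens.mem_iSup.mpr ⟨π x, hyW (π x)⟩)
      (fun y => ac g (W y) (a y) * ai y) fun y z => hcomp y z
    change Γ(X, ⊤) at r
    have hr1 : r = 1 := by
      refine hinj ?_
      rw [map_one]
      refine TopCat.Sheaf.eq_of_locally_eq' T.sheaf (fun y => δ ⁻¹ᵁ (π ⁻¹ᵁ W y)) ⊤ (fun y => homOfLE le_top)
        (fun x _ => Opens.mem_iSup.mpr ⟨π (δ x), hyW _⟩) _ _ fun y => ?_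
      refine ((app_resO δ (le_top : π ⁻¹ᵁ W y ≤ ⊤) r).symm.trans ?_).trans (map_one (resO T le_top)).symm
      rw [show resO X (le_top : π ⁻¹ᵁ W y ≤ ⊤) r = _ from hr y, map_mul]
      have h1 : (δ.app (π ⁻¹ᵁ W y)).hom (ac g (W y) (a y)) = (δ.app (π ⁻¹ᵁ W y)).hom (a y) := by
        simp only [ac, Scheme.Hom.app_eq_appLE, ← CommRingCat.comp_apply, Scheme.Hom.appLE_comp_appLE]
        rw [appLE_of_eq' (hδ g)]
      rw [h1, ← map_mul, mul_comm, ha1 y, map_one]
    intro y
    have h2 : ac g (W y) (a y) * ai y = 1 := by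
      rw [← show resO X (le_top : π ⁻¹ᵁ W y ≤ ⊤) r = _ from hr y, hr1, map_one]
    linear_combination a y * h2 - ac g (W y) (a y) * ha1 y
  choose a0 ha0 using fun y => (hπ.range_iff (W y) (a y)).2 fun g => hinv g y
  have hiinv : ∀ g y, ac g (W y) (ai y) = ai y := fun g y => by
    have h2 := congrArg (ac g (W y)) (ha1 y)
    rw [map_mul, map_one, hinv g y] at h2
    linear_combination ai y * h2 - ac g (W y) (ai y) * ha1 y
  choose b0 hb0 using fun y => (hπ.range_iff (W y) (ai y)).2 fun g => hiinv g y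
  have hu : ∀ y, IsUnit (a0 y) := fun y => IsUnit.of_mul_eq_one (b0 y) (hπ.injective (W y) (by
    rw [map_mul, map_one, ha0, hb0, mul_comm, ha1]))
  obtain ⟨s, hs, -⟩ := TopCat.Sheaf.existsUnique_gluing' (QC.abSheaf M) W ⊤ (fun y => homOfLE le_top)
    (fun y _ => Opens.mem_iSup.mpr ⟨y, hyW y⟩) (fun y => a0 y • m y) fun y z => by
      show res M inf_le_left (a0 y • m y) = res M inf_le_right (a0 z • m z)
      rw [res_smul, res_smul, ← hb y z, smul_smul]
      refine congrArg (fun c : Γ(Y, W y ⊓ W z) => c • res M inf_le_left (m y)) (hπ.injective _ ?_)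
      rw [map_mul, app_resO, app_resO, ha0, ha0]
      exact hab y z
  have hgen : IsGen (X := Y) (N := M) (U := ⊤) s := UfdExtend.isGen_of_locally fun y _ =>
    ⟨W y, le_top, hyW y, by
      rw [show res M (le_top : W y ≤ ⊤) s = _ from hs y]
      exact UfdExtend.isGen_unit_smul (hm y) (hu y)⟩
  refine ⟨@asIso _ _ _ _ (TMul.homOf s) (S14809.isIso_of_genLocus_top _ ?_)⟩
  refine top_le_iff.1 (TMul.le_genLocus _ ?_)
  rw [TMul.val_homOf, res_self]
  exact hgen

end Groth.Agent.SymSqLib
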