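import Groth.Agent.CurveSq.Diag
import Groth.Agent.SymSqLib.PicInj

/-!
The class of a Weierstrass point and of the divisors on the square.
-/

set_option autoImplicit false
set_option backward.isDefEq.respectTransparency false
set_option linter.style.haveILetI false
set_option linter.unusedSectionVars false
set_option maxHeartbeats 1000000

universe u

open CategoryTheory CategoryTheory.Limits AlgebraicGeometry TopologicalSpace

noncomputable section

namespace Groth.Agent.SymSqLib

attribute [local instance] Nakai.clMonoid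

open CurveSq (sq p1 p2 box Lb graph cl_pullback_tensor cl_pullback_comp cl_pullback_id cl_pullback_one cl_pullback_pow)

variable {k : Type u} [Field k] [IsAlgClosed k] {C : Scheme.{u}} [C.Over (Spec (CommRingCat.of k))]
  [IsProper (C ↘ Spec (CommRingCat.of k))] [Smooth (C ↘ Spec (CommRingCat.of k))] [ConnectedSpace C]
  {x : Spec (CommRingCat.of k) ⟶ C} (hx : x ≫ (C ↘ Spec (CommRingCat.of k)) = 𝟙 _)

/-- The slice through `x`. -/
abbrev slice : C ⟶ sq k C :=
  pullback.lift ((C ↘ Spec (CommRingCat.of k)) ≫ x) (𝟙 C)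
    (by rw [Category.assoc, hx, Category.comp_id, Category.id_comp])

include hx

/-- A graph through `(x, x)` cuts the slice in `x`. -/
theorem cl_slice_graph {τ : C ⟶ C} (hτp : τ ≫ (C ↘ Spec (CommRingCat.of k)) = C ↘ Spec (CommRingCat.of k))
    (hτx : x ≫ τ = x) {M : (sq k C).Modules} (hM : PicF.IsInvertible M)
    (hMinv : ClSub.IsInverseOf M (ClSub.idealMod (graph hτp).ker)) {A : C.Modules} (hA : PicF.IsInvertible A)
    (hAinv : ClSub.IsInverseOf A (ClSub.idealMod x.ker)) :
    PicF.cl ((Scheme.Modules.pullback (slice hx)).obj M) = PicF.cl A := by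
  haveI : IsClosedImmersion x := isClosedImmersion_of_comp_eq_id (C ↘ Spec (CommRingCat.of k)) x hx
  haveI : IsClosedImmersion (graph hτp) :=
    haveI : IsClosedImmersion (graph hτp ≫ p1 k C) := by
      rw [show graph hτp ≫ p1 k C = 𝟙 C from pullback.lift_fst _ _ _]; infer_instance
    IsClosedImmersion.of_comp (graph hτp) (p1 k C)
  have e : x ≫ (C ↘ Spec (CommRingCat.of k)) ≫ x = x := by rw [← Category.assoc, hx, Category.id_comp]
  have hw : x ≫ slice hx = x ≫ graph hτp := by
    apply pullback.hom_ext <;> simp [graph, hτx, e]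
  have huv : ∀ {T : Scheme.{u}} (u v : T ⟶ C), u ≫ slice hx = v ≫ graph hτp →
      v = (u ≫ (C ↘ Spec (CommRingCat.of k))) ≫ x ∧ v ≫ τ = u := by
    intro T u v he
    have e1 := congrArg (· ≫ pullback.fst _ _) he
    have e2 := congrArg (· ≫ pullback.snd _ _) he
    simp only [graph, Category.assoc, pullback.lift_fst, pullback.lift_snd, Category.comp_id] at e1 e2
    exact ⟨e1.symm.trans (Category.assoc _ _ _).symm, e2.symm⟩
  have hsq : IsPullback x x (slice hx) (graph hτp) := by
    refine ⟨⟨hw⟩, ⟨PullbackCone.IsLimit.mk _ (fun c => c.fst ≫ (C ↘ Spec (CommRingCat.of k)))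
      (fun c => ?_) (fun c => ?_) (fun c m h1 _ => ?_)⟩⟩
    · obtain ⟨hv, hu⟩ := huv _ _ c.condition
      conv_rhs => rw [← hu, hv, Category.assoc, hτx]
    · exact (huv _ _ c.condition).1.symm
    · rw [← h1, Category.assoc, hx, Category.comp_id]
  have hI : PicF.IsInvertible (ClSub.idealMod x.ker) :=
    Intersect.isInvertible_inverse hA hAinv
  have hJ : PicF.IsInvertible (ClSub.idealMod (graph hτp).ker) :=
    Intersect.isInvertible_inverse hM hMinv
  have hcm := CurveSq.comap_ker_eq hsq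
  obtain ⟨e'⟩ := Nakai.nonempty_pullback_idealMod (slice hx) ((Groth.Agent.S8914.result _).1 hJ)
    (hcm.symm ▸ (Groth.Agent.S8914.result _).1 hI)
  have h1 : PicF.cl ((Scheme.Modules.pullback (slice hx)).obj M) * PicF.cl (ClSub.idealMod x.ker) = 1 := by
    rw [← hcm, ← (PicGrp.cl_eq_cl_iff _ _).2 ⟨e'⟩, ← cl_pullback_tensor]
    exact ((PicGrp.cl_eq_cl_iff _ _).2 ⟨(Scheme.Modules.pullback _).mapIso hMinv.some⟩).trans (cl_pullback_one _)
  have h2 : PicF.cl A * PicF.cl (ClSub.idealMod x.ker) = 1 := by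
    rw [← Nakai.cl_tensor]; exact (PicGrp.cl_eq_cl_iff _ _).2 ⟨hAinv.some⟩
  calc _ = PicF.cl ((Scheme.Modules.pullback (slice hx)).obj M) *
        (PicF.cl (ClSub.idealMod x.ker) * PicF.cl A) := by
          rw [mul_comm (PicF.cl (ClSub.idealMod x.ker)), h2, mul_one]
    _ = PicF.cl A := by rw [← mul_assoc, h1, one_mul]

/-- `O(2x)` is the hyperelliptic class at a Weierstrass point. -/
theorem cl_sq_eq_Lb (hdim : topologicalKrullDim C = 1) {κ : C ⟶ CohB1.ProjSpace 1 k}
    (hκ : κ ≫ CohB1.ProjSpace.toSpec 1 k = C ↘ Spec (CommRingCat.of k)) [IsFinite κ] [Flat κ]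
    (hκ2 : ∀ y : CohB1.ProjSpace 1 k, κ.finrank y = 2) {σ : C ⟶ C} (hσ : σ ≫ κ = κ) (hσ1 : σ ≠ 𝟙 C)
    (hσp : σ ≫ (C ↘ Spec (CommRingCat.of k)) = C ↘ Spec (CommRingCat.of k)) (hxW : x ≫ σ = x)
    {N ND : (sq k C).Modules} (hN : PicF.IsInvertible N) (hND : PicF.IsInvertible ND)
    (hNi : ClSub.IsInverseOf N (ClSub.idealMod (graph hσp).ker))
    (hNDi : ClSub.IsInverseOf ND (ClSub.idealMod (pullback.diagonal (C ↘ Spec (CommRingCat.of k))).ker))
    {A : C.Modules} (hA : PicF.IsInvertible A) (hAinv : ClSub.IsInverseOf A (ClSub.idealMod x.ker)) :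
    PicF.cl A * PicF.cl A = PicF.cl (Lb κ) := by
  have h := CurveSq.cl_ND_mul_N hdim hκ hκ2 hσ hσ1 hσp hNi hNDi
  have hdiag : pullback.diagonal (C ↘ Spec (CommRingCat.of k)) =
      graph (Category.id_comp (C ↘ Spec (CommRingCat.of k))) := by
    apply pullback.hom_ext <;> simp [graph]
  rw [← Nakai.cl_tensor, PicGrp.cl_eq_cl_iff] at h
  have h' := (PicGrp.cl_eq_cl_iff _ _).2 (Nonempty.map (Scheme.Modules.pullback (slice hx)).mapIso h)
  rw [cl_pullback_tensor, cl_slice_graph hx hσp hxW hN hNi hA hAinv,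
    cl_slice_graph hx (Category.id_comp (C ↘ Spec (CommRingCat.of k))) (Category.comp_id x) hND
      (hdiag ▸ hNDi) hA hAinv,
    cl_pullback_tensor, cl_pullback_comp (slice hx) (p1 k C) (pullback.lift_fst _ _ _),
    cl_pullback_comp (slice hx) (p2 k C) (pullback.lift_snd _ _ _), cl_pullback_id,
    cl_pullback_pow, Nakai.cl_pow, pow_one, pow_one] at h'
  have hconst : PicF.cl ((Scheme.Modules.pullback ((C ↘ Spec (CommRingCat.of k)) ≫ x)).obj (Lb κ)) = 1 := by
    haveI : Subsingleton (Spec (CommRingCat.of k)) := inferInstanceAs (Subsingleton (PrimeSpectrum k))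
    haveI : Nonempty (Spec (CommRingCat.of k)) := inferInstanceAs (Nonempty (PrimeSpectrum k))
    obtain ⟨e⟩ := PlaneBlow.nonempty_iso_structure_of_subsingleton
      (PicLoc.isInvertible_pullback x (CurveVA.isInvertible_O1 κ))
    rw [← cl_pullback_comp (C ↘ Spec (CommRingCat.of k)) x rfl]
    exact ((PicGrp.cl_eq_cl_iff _ _).2 ⟨(Scheme.Modules.pullback _).mapIso e⟩).trans (cl_pullback_one _)
  rw [hconst, one_mul] at h'
  exact h'

end Groth.Agent.SymSqLib
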