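import Groth.Agent.SymSqLib.Quot
import Groth.Agent.CurveSq.Inter
import Groth.Agent.PtPush.StrictChi
import Groth.Agent.Intersect.ProperInt
import Groth.Agent.FEtRank.PushRank
import Groth.Agent.BMCoh.Height
import Groth.Agent.K0Coh.Basic
import Groth.Agent.S1582
import Groth.Agent.S4643
import Groth.Agent.S11746
import Groth.Agent.S14521

/-!
Intersection numbers on the symmetric square of a curve.
-/

set_option autoImplicit false
set_option backward.isDefEq.respectTransparency false
set_option linter.style.haveILetI false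
set_option linter.unusedSectionVars false
set_option maxHeartbeats 1000000

universe u

open CategoryTheory CategoryTheory.Limits AlgebraicGeometry TopologicalSpace

noncomputable section

namespace Groth.Agent.SymSqLib

section Proper

variable {k : Type u} [Field k] {Y : Scheme.{u}} [Y.Over (Spec (CommRingCat.of k))]
  [IsProper (Y ↘ Spec (CommRingCat.of k))] (hd : topologicalKrullDim Y ≤ (2 : ℕ))

include hd

theorem intNum_comm (A B : Y.Modules) :
    FGA.intNum k Y 2 ![A, B] (Coh.structureModule Y) = FGA.intNum k Y 2 ![B, A] (Coh.structureModule Y) := by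
  have h := PtPush.euler_tensor k hd A B
  have h' := PtPush.euler_tensor k hd B A
  rw [CurveRR.euler_eq_of_iso (k := k) (TMul.commIso A B)] at h
  omega

theorem intNum_congr_right {A A' : Y.Modules} (e : A ≅ A') (C : Y.Modules) :
    FGA.intNum k Y 2 ![C, A] (Coh.structureModule Y) = FGA.intNum k Y 2 ![C, A'] (Coh.structureModule Y) := by
  rw [intNum_comm hd C A, intNum_comm hd C A', PtPush.intNum_congr_left k hd e C]

theorem intNum_tensor_right (A B C : Y.Modules) (hA : PicF.IsInvertible A) (hB : PicF.IsInvertible B)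
    (hC : PicF.IsInvertible C) :
    FGA.intNum k Y 2 ![C, CohB1.tensorMod A B] (Coh.structureModule Y) =
      FGA.intNum k Y 2 ![C, A] (Coh.structureModule Y) + FGA.intNum k Y 2 ![C, B] (Coh.structureModule Y) := by
  rw [intNum_comm hd C, intNum_comm hd C A, intNum_comm hd C B, PtPush.intNum_tensor_left k hd A B C hA hB hC]

end Proper

theorem intNum_congr_sheaf {k : Type u} [Field k] {Y : Scheme.{u}} [Y.Over (Spec (CommRingCat.of k))]
    [IsProper (Y ↘ Spec (CommRingCat.of k))] (hd : topologicalKrullDim Y ≤ (2 : ℕ)) (M : Fin 2 → Y.Modules)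
    {F G : Y.Modules} (e : F ≅ G) : FGA.intNum k Y 2 M F = FGA.intNum k Y 2 M G := by
  have h : (FGA.intNum k Y 2 M F : ℚ) = FGA.intNum k Y 2 M G := by
    rw [Intersect.intNum_eq_alt k 2 hd, Intersect.intNum_eq_alt k 2 hd, Intersect.χt_iso k e]
  exact_mod_cast h

/-- Intersection numbers do not change under an automorphism. -/
theorem intNum_pullback_iso {k : Type u} [Field k] {X X' : Scheme.{u}}
    [X.Over (Spec (CommRingCat.of k))] [X'.Over (Spec (CommRingCat.of k))]
    [IsProper (X ↘ Spec (CommRingCat.of k))] [IsProper (X' ↘ Spec (CommRingCat.of k))]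
    (s : X' ⟶ X) [IsIso s] (hs : s ≫ (X ↘ Spec (CommRingCat.of k)) = X' ↘ Spec (CommRingCat.of k))
    (hd : topologicalKrullDim X ≤ (2 : ℕ)) (hd' : topologicalKrullDim X' ≤ (2 : ℕ))
    {A B : X.Modules} (hA : PicF.IsInvertible A) (hB : PicF.IsInvertible B) :
    FGA.intNum k X' 2 ![(Scheme.Modules.pullback s).obj A, (Scheme.Modules.pullback s).obj B]
      (Coh.structureModule X') = FGA.intNum k X 2 ![A, B] (Coh.structureModule X) := by
  haveI := CurveRR.unitToPush_isIso s
  haveI := CurveRR.isNoetherian_of_proper k X'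
  have h := Groth.Agent.S11746.result k X X' s hs 2 2 hd hd' ![A, B] (Intersect.isInvertible_vec₂ hA hB)
    (Coh.structureModule X') RefStalk.isCoh_structureModule (by rw [Intersect.dim_support_structure]; exact hd')
  rw [show (fun i => (Scheme.Modules.pullback s).obj (![A, B] i)) =
      ![(Scheme.Modules.pullback s).obj A, (Scheme.Modules.pullback s).obj B] from
    funext fun i => by fin_cases i <;> rfl] at h
  rw [h]
  exact (intNum_congr_sheaf hd _ (asIso (ClSub.unitToPush s))).symm

/-- Pulling back along a finite flat cover of degree two doubles intersection numbers. -/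
theorem intNum_pullback_double {k : Type u} [Field k] [IsAlgClosed k] {X Y : Scheme.{u}}
    [X.Over (Spec (CommRingCat.of k))] [Y.Over (Spec (CommRingCat.of k))]
    [IsProper (X ↘ Spec (CommRingCat.of k))] [IsProper (Y ↘ Spec (CommRingCat.of k))] [IsIntegral Y]
    (p : X ⟶ Y) [IsFinite p] [Flat p] [LocallyOfFinitePresentation p]
    (hp : p ≫ (Y ↘ Spec (CommRingCat.of k)) = X ↘ Spec (CommRingCat.of k)) (hr : ∀ y, p.finrank y = 2)
    (hdX : topologicalKrullDim X ≤ (2 : ℕ)) (hdY : topologicalKrullDim Y = (2 : ℕ))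
    {A B : Y.Modules} (hA : PicF.IsInvertible A) (hB : PicF.IsInvertible B) :
    FGA.intNum k X 2 ![(Scheme.Modules.pullback p).obj A, (Scheme.Modules.pullback p).obj B]
      (Coh.structureModule X) = 2 * FGA.intNum k Y 2 ![A, B] (Coh.structureModule Y) := by
  classical
  haveI := CurveRR.isNoetherian_of_proper k X
  haveI := CurveRR.isNoetherian_of_proper k Y
  have hM := Intersect.isInvertible_vec₂ hA hB
  have hlf := FEtRank.isFinLocFreeOfRank_of_finrank_eq p hr
  have hbasis : ∀ y : Y, Nonempty (Module.Basis (Fin 2) (Y.presheaf.stalk y)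
      (((Coh.push p).obj (Coh.structureModule X)).presheaf.stalk y)) := fun y => by
    obtain ⟨W, hyW, ⟨i⟩⟩ := hlf y
    exact (LocFree.exists_basis_stalk i
      (LocFree.isQCoh_of_isFinLocFree fun z => let ⟨U, h1, h2⟩ := hlf z; ⟨U, 2, h1, h2⟩) hyW).map
      fun b => b.reindex Equiv.ulift
  have hmem : ∀ y : Y, y ∈ CohB1.support ((Coh.push p).obj (Coh.structureModule X)) := fun y => by
    obtain ⟨b⟩ := hbasis y
    exact not_subsingleton_iff_nontrivial.2 b.repr.toEquiv.nontrivial
  have hcoh : Coh.IsCoh ((Coh.push p).obj (Coh.structureModule X)) :=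
    K0Coh.isCoh_of_isFinLocFree fun z => let ⟨U, h1, h2⟩ := hlf z; ⟨U, 2, h1, h2⟩
  have hη : closure ({genericPoint Y} : Set Y) = Set.univ := genericPoint_closure _
  have hs : ∀ ξ : Y, ξ ∈ ({genericPoint Y} : Finset Y) ↔
      ξ ∈ CohB1.support ((Coh.push p).obj (Coh.structureModule X)) ∧
        topologicalKrullDim ↥(closure ({ξ} : Set Y)) = (2 : ℕ) := fun ξ => by
    rw [Finset.mem_singleton]
    constructor
    · rintro rfl
      refine ⟨hmem _, ?_⟩
      rw [hη, IsHomeomorph.topologicalKrullDim_eq _ (Homeomorph.Set.univ Y).isHomeomorph]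
      exact hdY
    · rintro ⟨-, h⟩
      by_contra hne
      have hlt := BMCoh.pdim_lt_of_specializes (X := Y) (hdY.trans_lt (WithBot.coe_lt_coe.2 (ENat.coe_lt_top 2)))
        (genericPoint_specializes ξ) hne
      have h2 : WeilCoh.pdim Y ξ = 2 := by
        rw [WeilCoh.pdim, WeilCoh.natDim, h]; rfl
      have h3 : WeilCoh.pdim Y (genericPoint Y) = 2 := by
        rw [WeilCoh.pdim, WeilCoh.natDim, hη,
          IsHomeomorph.topologicalKrullDim_eq _ (Homeomorph.Set.univ Y).isHomeomorph, hdY]
        rfl
      omega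
  have h := Groth.Agent.S11746.result k Y X p hp 2 2 hdY.le hdX ![A, B] hM (Coh.structureModule X)
    RefStalk.isCoh_structureModule (by rw [Intersect.dim_support_structure]; exact hdX)
  rw [show (fun i => (Scheme.Modules.pullback p).obj (![A, B] i)) =
      ![(Scheme.Modules.pullback p).obj A, (Scheme.Modules.pullback p).obj B] from
    funext fun i => by fin_cases i <;> rfl] at h
  rw [h, Groth.Agent.S14521.result k Y 2 hdY.le ![A, B] hM _ hcoh
    ((topologicalKrullDim_subspace_le Y _).trans hdY.le) {genericPoint Y} hs, Finset.sum_singleton]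
  obtain ⟨b⟩ := hbasis (genericPoint Y)
  have hlen : Module.length (Y.presheaf.stalk (genericPoint Y))
      (((Coh.push p).obj (Coh.structureModule X)).presheaf.stalk (genericPoint Y)) = (2 : ℕ) := by
    letI : Field (Y.presheaf.stalk (genericPoint Y)) := inferInstanceAs (Field Y.functionField)
    rw [b.equivFun.length_eq, Module.length_eq_finrank, Module.finrank_fin_fun]
  rw [hlen]
  have hbot : Scheme.IdealSheafData.vanishingIdeal
      (⟨closure ({genericPoint Y} : Set Y), isClosed_closure⟩ : TopologicalSpace.Closeds Y) = ⊥ := by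
    rw [show (⟨closure ({genericPoint Y} : Set Y), isClosed_closure⟩ : TopologicalSpace.Closeds Y) = ⊤ from
      SetLike.coe_injective hη]
    exact Scheme.IdealSheafData.vanishingIdeal_top.trans Scheme.nilradical_eq_bot
  rw [hbot, intNum_congr_sheaf hdY.le _ (Intersect.nonempty_quot_bot (X := Y)).some]
  rfl

end Groth.Agent.SymSqLib
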