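import Groth.Prelude.Def_SymProd
import Groth.Agent.SymCurve.Main
import Groth.Agent.SepAffineGen.Main
import Groth.Agent.AlgEquivCurve.RelDim
import Groth.Agent.CurveRR.Easy

/-!
The symmetric square of a curve, seen through the binary fibre product.
-/

set_option autoImplicit false
set_option backward.isDefEq.respectTransparency false
set_option backward.isDefEq.respectTransparency.types false

universe u

open CategoryTheory CategoryTheory.Limits AlgebraicGeometry

noncomputable section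

namespace Groth.Agent.SymSqLib

theorem appLE_of_eq {X Y : Scheme.{u}} {f g : X ⟶ Y} (h : f = g) (U : Y.Opens) (V : X.Opens)
    (e : V ≤ f ⁻¹ᵁ U) : f.appLE U V e = g.appLE U V (h ▸ e) := by
  subst h; rfl

/-- Transport of a quotient along an equivariant isomorphism. -/
theorem isQuot_transport {G : Type u} [Group G] {X X' Y : Scheme.{u}} {ρ : G →* Aut X} {ρ' : G →* Aut X'}
    (e : X' ≅ X) (he : ∀ g, (ρ' g).hom ≫ e.hom = e.hom ≫ (ρ g).hom) {p : X ⟶ Y} (hp : SGA1.IsQuot ρ p) :
    SGA1.IsQuot ρ' (e.hom ≫ p) := by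
  haveI := hp.affine
  have hb : ∀ U : Y.Opens, Function.Bijective (e.hom.app (p ⁻¹ᵁ U)).hom := fun U =>
    ConcreteCategory.bijective_of_isIso _
  have hinv : ∀ g, (ρ' g).hom ≫ e.hom ≫ p = e.hom ≫ p := fun g => by
    rw [← Category.assoc, he, Category.assoc, hp.inv]
  refine ⟨inferInstance, hinv, fun U => ?_, fun U s => ?_⟩
  · rw [Scheme.Hom.comp_app]
    exact (hb U).1.comp (hp.injective U)
  · obtain ⟨t, rfl⟩ := (hb U).2 s
    have key : ∀ g, ((ρ' g).hom.appLE (e.hom ⁻¹ᵁ (p ⁻¹ᵁ U)) (e.hom ⁻¹ᵁ (p ⁻¹ᵁ U))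
          (SGA1.preimage_le_of_inv ρ' (e.hom ≫ p) hinv g U)).hom ((e.hom.app (p ⁻¹ᵁ U)).hom t) =
        (e.hom.app (p ⁻¹ᵁ U)).hom
          (((ρ g).hom.appLE (p ⁻¹ᵁ U) (p ⁻¹ᵁ U) (SGA1.preimage_le_of_inv ρ p hp.inv g U)).hom t) := fun g => by
      rw [Scheme.Hom.app_eq_appLE, ← CommRingCat.comp_apply, ← CommRingCat.comp_apply,
        Scheme.Hom.appLE_comp_appLE, Scheme.Hom.appLE_comp_appLE, appLE_of_eq (he g)]
    constructor
    · rintro ⟨a, ha⟩ g
      rw [Scheme.Hom.comp_app, CommRingCat.comp_apply] at ha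
      refine (key g).trans (congrArg _ ?_)
      exact (hp.range_iff U t).1 ⟨a, (hb U).1 ha⟩ g
    · intro h
      obtain ⟨a, ha⟩ := (hp.range_iff U t).2 fun g => (hb U).1 ((key g).symm.trans (h g))
      exact ⟨a, by rw [Scheme.Hom.comp_app, CommRingCat.comp_apply, ha]; rfl⟩

variable {k : Type u} [Field k] {C : Scheme.{u}} [C.Over (Spec (CommRingCat.of k))]


/-- The binary fibre product as a fibre power. -/
def pairIso : SymProd.fibPow (C ↘ Spec (CommRingCat.of k)) 2 ≅ pullback (C ↘ Spec (CommRingCat.of k)) (C ↘ Spec (CommRingCat.of k)) where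
  hom := pullback.lift (WidePullback.π _ 0) (WidePullback.π _ 1)
    ((WidePullback.π_arrow _ _).trans (WidePullback.π_arrow _ _).symm)
  inv := WidePullback.lift (pullback.fst _ _ ≫ (C ↘ Spec (CommRingCat.of k))) ![pullback.fst _ _, pullback.snd _ _] fun i => by
    fin_cases i
    · rfl
    · exact pullback.condition.symm
  hom_inv_id := by
    apply WidePullback.hom_ext
    · intro i
      rw [Category.assoc, WidePullback.lift_π, Category.id_comp]
      fin_cases i
      · exact pullback.lift_fst _ _ _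
      · exact pullback.lift_snd _ _ _
    · rw [Category.assoc, WidePullback.lift_base, pullback.lift_fst_assoc, Category.id_comp]
      exact WidePullback.π_arrow _ _
  inv_hom_id := by
    apply pullback.hom_ext
    · rw [Category.assoc, pullback.lift_fst, WidePullback.lift_π, Category.id_comp]; rfl
    · rw [Category.assoc, pullback.lift_snd, WidePullback.lift_π, Category.id_comp]; rfl

theorem perm_two (σ : Equiv.Perm (Fin 2)) : σ = 1 ∨ σ = Equiv.swap 0 1 := by
  revert σ; decide

variable {Sq : Scheme.{u}} {ρ : ULift.{u} (Equiv.Perm (Fin 2)) →* Aut (pullback (C ↘ Spec (CommRingCat.of k)) (C ↘ Spec (CommRingCat.of k)))}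
  {π : pullback (C ↘ Spec (CommRingCat.of k)) (C ↘ Spec (CommRingCat.of k)) ⟶ Sq}

theorem isSymProd_two (hρ : (ρ (ULift.up (Equiv.swap 0 1))).hom = (pullbackSymmetry (C ↘ Spec (CommRingCat.of k)) (C ↘ Spec (CommRingCat.of k))).hom)
    (hπ : SGA1.IsQuot ρ π) {q : Sq ⟶ Spec (CommRingCat.of k)} (hq : π ≫ q = pullback.fst (C ↘ Spec (CommRingCat.of k)) (C ↘ Spec (CommRingCat.of k)) ≫ (C ↘ Spec (CommRingCat.of k))) :
    SymProd.IsSymProd (C ↘ Spec (CommRingCat.of k)) 2 (pairIso.hom ≫ π) q := by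
  refine ⟨isQuot_transport pairIso (fun g => ?_) hπ, ?_⟩
  · obtain ⟨σ⟩ := g
    rcases perm_two σ with rfl | rfl
    · rw [SymProd.permActU_hom, SymProd.permHom_one,
        show ρ (ULift.up 1) = 1 from map_one ρ, Category.id_comp]
      exact (Category.comp_id _).symm
    · rw [SymProd.permActU_hom, hρ]
      apply pullback.hom_ext <;> simp [pairIso]
  · rw [Category.assoc, hq]
    simp [pairIso]

/-- The symmetric square of a smooth proper connected curve. -/
theorem sq_facts [IsAlgClosed k] [IsProper (C ↘ Spec (CommRingCat.of k))] [Smooth (C ↘ Spec (CommRingCat.of k))] [ConnectedSpace C] (hdim : topologicalKrullDim C = 1)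
    (hρ : (ρ (ULift.up (Equiv.swap 0 1))).hom = (pullbackSymmetry (C ↘ Spec (CommRingCat.of k)) (C ↘ Spec (CommRingCat.of k))).hom) (hπ : SGA1.IsQuot ρ π)
    {q : Sq ⟶ Spec (CommRingCat.of k)} (hq : π ≫ q = pullback.fst (C ↘ Spec (CommRingCat.of k)) (C ↘ Spec (CommRingCat.of k)) ≫ (C ↘ Spec (CommRingCat.of k))) :
    IsProper q ∧ Smooth q ∧ Surjective π ∧ Flat π ∧ IsFinite π ∧ LocallyOfFinitePresentation π ∧
      ∀ [Flat π] [IsFinite π], ∀ y, π.finrank y = 2 := by
  haveI := CurveRR.Easy.isIntegral_of_smooth (k := k) (X := C)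
  haveI := AlgEquivCurve.smoothOfRelativeDimension_one (C ↘ Spec (CommRingCat.of k)) hdim
  haveI : C.IsSeparated := ⟨by rw [← terminal.comp_from (C ↘ Spec (CommRingCat.of k))]; infer_instance⟩
  haveI : IsLocallyNoetherian C := LocallyOfFiniteType.isLocallyNoetherian (C ↘ Spec (CommRingCat.of k))
  have hAF : SymProd.IsAF (C ↘ Spec (CommRingCat.of k)) := fun _ T _ => by
    obtain ⟨D, hD, hTD⟩ := SepAffineGen.exists_affine_of_dim_le_one (X := C) (E := (T : Set C)) T.finite_toSet
      (fun x _ => inferInstance) fun x _ => by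
        rw [← PrimeSpectrum.topologicalKrullDim_eq_ringKrullDim]
        exact (C.fromSpecStalk x).isEmbedding.isInducing.topologicalKrullDim_le.trans hdim.le
    exact ⟨D, hD, fun x hx => hTD hx⟩
  have hS := isSymProd_two hρ hπ hq
  obtain ⟨hP, hSm⟩ := SymCurve.proper_and_smooth hAF hS
  obtain ⟨hfl, hfi, hlfp, hrk⟩ := SymCurve.flat_and_rank_global hAF hS
  have hfl' : Flat π := (MorphismProperty.cancel_left_of_respectsIso @Flat _ π).1 hfl
  have hfi' : IsFinite π := (MorphismProperty.cancel_left_of_respectsIso @IsFinite _ π).1 hfi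
  refine ⟨hP, hSm, ⟨QuotScheme.surjective hπ⟩, hfl', hfi',
    (MorphismProperty.cancel_left_of_respectsIso @LocallyOfFinitePresentation _ π).1 hlfp, ?_⟩
  intro _ _ y
  haveI := hfl
  haveI := hfi
  rw [← congrFun (Scheme.Hom.finrank_comp_left_of_isIso pairIso.hom π) y]
  exact hrk y

end Groth.Agent.SymSqLib
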